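import Groth.Agent.Lib.GorTor.Kill
import Groth.Agent.Lib.Gor.Hull

/-!
# `Tor` of the injective hull of the residue field of a Gorenstein local ring
-/

set_option autoImplicit false
universe u

open CategoryTheory Abelian IsLocalRing RingTheory.Sequence TensorProduct GrothLib.FlatFP

namespace GrothLib.GorTor

/-- The lengths of the `Tor` of the socle modules. -/
def g (d m i : ℕ) : ℕ := if m ≤ i then (d - m).choose (i - m) else 0

theorem g_add (d m i : ℕ) (hm : m < d) : g d (m + 1) (i + 1) + g d (m + 1) i = g d m i := by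
  obtain ⟨n, rfl⟩ : ∃ n, d = m + 1 + n := ⟨d - (m + 1), by omega⟩
  have e1 : m + 1 + n - (m + 1) = n := by omega
  have e2 : m + 1 + n - m = n + 1 := by omega
  unfold g
  rw [e1, e2]
  rcases lt_trichotomy i m with h | h | h
  · rw [if_neg (by omega), if_neg (by omega), if_neg (by omega)]
  · subst h
    rw [if_pos le_rfl, if_neg (by omega), if_pos le_rfl]
    simp
  · obtain ⟨j, rfl⟩ : ∃ j, i = m + 1 + j := ⟨i - (m + 1), by omega⟩
    rw [if_pos (by omega), if_pos (by omega), if_pos (by omega),
      show m + 1 + j + 1 - (m + 1) = j + 1 by omega, show m + 1 + j - (m + 1) = j by omega,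
      show m + 1 + j - m = j + 1 by omega, Nat.choose_succ_succ, Nat.succ_eq_add_one, add_comm]

theorem g_eq_zero (d m i : ℕ) (hm : m ≤ d) (hi : d < i) : g d m i = 0 := by
  rw [g, if_pos (by omega)]
  exact Nat.choose_eq_zero_of_lt (by omega)

theorem eq_g (d m : ℕ) (hm : m < d) (t : ℕ → ℕ∞) (h : ∀ i, t (i + 1) + t i = g d m i) (i : ℕ) :
    t i = g d (m + 1) i := by
  have key : ∀ k i, d + 1 ≤ i + k → t i = g d (m + 1) i := by
    intro k
    induction k with
    | zero =>
      intro i hi
      have := h i
      rw [g_eq_zero d m i hm.le (by omega), Nat.cast_zero, add_eq_zero] at this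
      rw [this.2, g_eq_zero d (m + 1) i hm (by omega), Nat.cast_zero]
    | succ k ih =>
      intro i hi
      have := h i
      rw [ih (i + 1) (by omega), ← g_add d m i hm, Nat.cast_add] at this
      exact WithTop.add_left_cancel (ENat.natCast_ne_top _) this
  exact key (d + 1) i (by omega)

variable {A : Type u} [CommRing A] [IsNoetherianRing A] [IsLocalRing A]

local notation "κ" => ModuleCat.of A (ResidueField A)

omit [IsNoetherianRing A] in
theorem smul_residue_eq_zero {r : A} (hr : r ∈ maximalIdeal A) (x : ResidueField A) : r • x = 0 := by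
  rw [Algebra.smul_def, show algebraMap A (ResidueField A) r = 0 from residue_eq_zero_iff r |>.2 hr,
    zero_mul]

omit [IsNoetherianRing A] in
theorem length_residueField : Module.length A (ResidueField A) = 1 := by
  haveI : IsSimpleModule A (A ⧸ maximalIdeal A) :=
    isSimpleModule_iff_isCoatom.2 (Ideal.isMaximal_def.1 (maximalIdeal.isMaximal A))
  exact Module.length_eq_one A (A ⧸ maximalIdeal A)

/-- The lengths for a regular sequence. -/
theorem length_T_quotient : ∀ (rs : List A), IsWeaklyRegular A rs → (∀ r ∈ rs, r ∈ maximalIdeal A) →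
    ∀ i, Module.length A (T (ModuleCat.of A (A ⧸ Ideal.ofList rs)) κ i) = rs.length.choose i := by
  have h0 : ∀ (rs : List A), (∀ r ∈ rs, r ∈ maximalIdeal A) →
      Module.length A (T (ModuleCat.of A (A ⧸ Ideal.ofList rs)) κ 0) = 1 := by
    intro rs hmem
    have hbot : (Ideal.ofList rs • ⊤ : Submodule A (ResidueField A)) = ⊥ := by
      refine le_bot_iff.1 (Submodule.smul_le.2 fun a ha x _ => ?_)
      rw [Submodule.mem_bot]
      exact smul_residue_eq_zero (Ideal.span_le.2 hmem ha) x
    rw [show Module.length A (T (ModuleCat.of A (A ⧸ Ideal.ofList rs)) κ 0) = _ from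
      (GrothLib.TorReg.H0equiv rs κ).length_eq, (Submodule.quotEquivOfEqBot _ hbot).length_eq,
      length_residueField]
  intro rs
  induction rs using List.reverseRecOn with
  | nil =>
    intro _ hmem i
    rcases i with _ | i
    · simpa using h0 [] hmem
    · have := GrothLib.TorReg.subsingleton_nil κ i
      rw [Module.length_eq_zero_iff.2 this]
      simp
  | append_singleton rs r ih =>
    intro hreg hmem i
    rw [isWeaklyRegular_append_iff, isWeaklyRegular_singleton_iff] at hreg
    have hr : IsSMulRegular (A ⧸ Ideal.ofList rs) r :=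
      ((Submodule.quotEquivOfEq _ _ (by rw [smul_eq_mul, Ideal.mul_top])).isSMulRegular_congr r).1 hreg.2
    have hrm : r ∈ maximalIdeal A := hmem r (List.mem_append_right _ (List.mem_singleton_self r))
    have ih' := ih hreg.1 fun s hs => hmem s (List.mem_append_left _ hs)
    rw [List.length_append, List.length_singleton]
    rcases i with _ | i
    · simpa using h0 _ hmem
    rw [show Module.length A (T (ModuleCat.of A (A ⧸ Ideal.ofList (rs ++ [r]))) κ (i + 1)) = _ from
      length_up (GrothLib.TorReg.step rs r) (GrothLib.TorReg.step_shortExact rs r hr) κ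
        (map_eq_zero_of_smul κ _ r (fun x => rfl) (fun x => smul_residue_eq_zero hrm x)) i]
    show Module.length A (T (ModuleCat.of A (A ⧸ Ideal.ofList rs)) κ (i + 1)) +
      Module.length A (T (ModuleCat.of A (A ⧸ Ideal.ofList rs)) κ i) = _
    rw [ih', ih', Nat.choose_succ_succ, Nat.succ_eq_add_one, ← Nat.cast_add, add_comm]

variable (E : Type u) [AddCommGroup E] [Module A E]

/-- The part of `E` killed by a sequence. -/
noncomputable abbrev D (rs : List A) : Submodule A E := Submodule.torsionBySet A E (Ideal.ofList rs : Ideal A)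

theorem mem_D {rs : List A} {x : E} : x ∈ D E rs ↔ ∀ a ∈ Ideal.ofList rs, a • x = 0 :=
  (Submodule.mem_torsionBySet_iff _ _).trans ⟨fun h a ha => h ⟨a, ha⟩, fun h a => h a.1 a.2⟩

theorem D_le (rs : List A) (r : A) : D E (rs ++ [r]) ≤ D E rs := fun x hx =>
  (mem_D E).2 fun a ha => (mem_D E).1 hx a (by rw [Ideal.ofList_append]; exact Ideal.mem_sup_left ha)

theorem length_T_step [Module.Injective A E] (rs : List A) (r : A) (hr : r ∈ maximalIdeal A)
    (hreg : IsSMulRegular (A ⧸ Ideal.ofList rs) r) (i : ℕ) :
    Module.length A (T (ModuleCat.of A (D E (rs ++ [r]))) κ i) =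
      Module.length A (T (ModuleCat.of A (D E rs)) κ (i + 1)) +
        Module.length A (T (ModuleCat.of A (D E rs)) κ i) := by
  let S : ShortComplex (ModuleCat.{u} A) := ShortComplex.mk
    (ModuleCat.ofHom (Submodule.inclusion (D_le E rs r))) (r • 𝟙 (ModuleCat.of A (D E rs)))
    (ModuleCat.hom_ext (LinearMap.ext fun x => Subtype.ext ((mem_D E).1 x.2 r (by
      rw [Ideal.ofList_append, Ideal.ofList_singleton]
      exact Ideal.mem_sup_right (Ideal.mem_span_singleton_self r)))))
  have hS : S.ShortExact :=
    { exact := (ShortComplex.moduleCat_exact_iff _).2 fun x hx => by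
        refine ⟨⟨x.1, (mem_D E).2 fun a ha => ?_⟩, Subtype.ext rfl⟩
        rw [Ideal.ofList_append, Ideal.ofList_singleton] at ha
        obtain ⟨b, hb, c, hc, rfl⟩ := Submodule.mem_sup.1 ha
        obtain ⟨c, rfl⟩ := Ideal.mem_span_singleton'.1 hc
        rw [add_smul, (mem_D E).1 x.2 b hb, zero_add, mul_smul,
          show r • x.1 = 0 from congrArg Subtype.val hx, smul_zero]
      mono_f := (ModuleCat.mono_iff_injective _).2 (Submodule.inclusion_injective (D_le E rs r))
      epi_g := (ModuleCat.epi_iff_surjective _).2 fun y => by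
        obtain ⟨ψ, hψ⟩ := (inferInstance : Module.Injective A E).out
          (r • LinearMap.id : (A ⧸ Ideal.ofList rs) →ₗ[A] A ⧸ Ideal.ofList rs) (fun a b h => hreg h)
          ((Ideal.ofList rs).liftQ (LinearMap.toSpanSingleton A E y.1) fun a ha =>
            (mem_D E).1 y.2 a ha)
        refine ⟨⟨ψ (Submodule.Quotient.mk 1), (mem_D E).2 fun a ha => ?_⟩, Subtype.ext ?_⟩
        · rw [← map_smul, ← Submodule.Quotient.mk_smul, smul_eq_mul, mul_one,
            (Submodule.Quotient.mk_eq_zero _).2 ha, map_zero]
        · show r • ψ (Submodule.Quotient.mk 1) = y.1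
          rw [← map_smul]
          exact (hψ (Submodule.Quotient.mk 1)).trans (one_smul A y.1) }
  exact length_down S hS κ
    (map_eq_zero_of_smul κ _ r (fun x => rfl) (fun x => smul_residue_eq_zero hr x)) i

variable {E} in
/-- For a Gorenstein local ring the socle module of a maximal regular sequence is cyclic. -/
theorem exists_D_cyclic [LocCoh.IsGorensteinLocalRing A] {d : ℕ} (hd : ringKrullDim A = d)
    {f : ResidueField A →ₗ[A] E} (hf : InjHull.IsInjectiveHull f) (rs : List A) (hlen : rs.length = d)
    (hreg : IsWeaklyRegular A rs) {n : ℕ} (hn : maximalIdeal A ^ n ≤ Ideal.ofList rs) :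
    ∃ c ∈ D E rs, ∀ x ∈ D E rs, ∃ a : A, a • c = x := by
  obtain ⟨hE, -⟩ := GrothLib.Gor.length_ext_residue A hd
  obtain ⟨g, hg⟩ := GrothLib.Gor.exists_isInjectiveHull A hd
  obtain ⟨e, -⟩ := GrothLib.InjMod.hull_unique hg hf
  obtain ⟨-, g₀, hg₀⟩ := GrothLib.Gor.ext_quotient_ofList rs hreg
  subst hlen
  let X := A ⧸ Ideal.ofList rs
  have hk : ∀ a ∈ maximalIdeal A ^ n, ∀ x : X, a • x = 0 := fun a ha x => by
    obtain ⟨x, rfl⟩ := Submodule.Quotient.mk_surjective _ x
    exact (Submodule.Quotient.mk_eq_zero _).2 (Ideal.mul_mem_right x _ (hn ha))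
  let Φ : Ext (ModuleCat.of A X) (ModuleCat.of A A) rs.length → E := fun z =>
    e (LC.toH (maximalIdeal A) rs.length n (ModuleCat.of A A)
      ((Ext.mk₀ (LC.homOfTors (maximalIdeal A) (ModuleCat.of A X)
        (fun a ha => hk a ha (Submodule.Quotient.mk 1)))).comp z (zero_add _)))
  have hΦ : ∀ (a : A) (z : Ext (ModuleCat.of A X) (ModuleCat.of A A) rs.length), Φ (a • z) = a • Φ z := fun a z => by
    show e _ = a • e _
    rw [Ext.comp_smul, map_smul, map_smul]
  refine ⟨Φ g₀, (mem_D E).2 fun a ha => ?_, fun x hx => ?_⟩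
  · rw [← hΦ, GrothLib.Gor.smul_eq_zero_of_source (fun y => ?_) g₀]
    · show e _ = 0
      rw [Ext.comp_zero, map_zero, map_zero]
    · obtain ⟨y, rfl⟩ := Submodule.Quotient.mk_surjective _ y
      exact (Submodule.Quotient.mk_eq_zero _).2 (Ideal.mul_mem_right y _ ha)
  obtain ⟨z, hz⟩ := GrothLib.Gor.exists_realize hE X hk (e.symm.toLinearMap.comp
    ((Ideal.ofList rs).liftQ (LinearMap.toSpanSingleton A E x) fun a ha => (mem_D E).1 hx a ha))
  obtain ⟨a, rfl⟩ := hg₀ z
  have h1 := hz (Submodule.Quotient.mk 1)
  refine ⟨a, ?_⟩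
  rw [Ext.comp_smul, map_smul] at h1
  show a • e _ = x
  rw [← map_smul, h1]
  show e (e.symm ((1 : A) • x)) = x
  rw [LinearEquiv.apply_symm_apply, one_smul]

variable {E} in
/-- The lengths of `Tor (E, κ)`. -/
theorem length_T_hull [LocCoh.IsGorensteinLocalRing A] {d : ℕ} (hd : ringKrullDim A = d)
    {f : ResidueField A →ₗ[A] E} (hf : InjHull.IsInjectiveHull f) (i : ℕ) :
    Module.length A (T (ModuleCat.of A E) κ i) = g d d i := by
  haveI := hf.isInjective
  obtain ⟨d', hd', hdep, -, -⟩ := GrothLib.Gor.exists_dim A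
  obtain rfl : d' = d := by rw [hd'] at hd; exact_mod_cast hd
  have hne : maximalIdeal A ≠ ⊤ := (maximalIdeal.isMaximal A).ne_top
  obtain ⟨full, hlen, hmem, hreg⟩ :=
    (GrothLib.Depth.le_idealDepth_iff_exists _ (GrothLib.Depth.smul_top_ne_top hne) d').1 hdep.ge
  haveI := GrothLib.Depth.nontrivial_quotient_ofList (M := A) full hmem
  have hdim := Module.supportDim_add_length_eq_supportDim_of_isRegular full
    (⟨hreg, (Submodule.Quotient.nontrivial_iff.1 this).symm⟩ : IsRegular A full)
  have hI : (Ideal.ofList full • ⊤ : Submodule A A) = Ideal.ofList full := by rw [smul_eq_mul, Ideal.mul_top]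
  have h0 : Module.supportDim A (A ⧸ Ideal.ofList full) ≤ 0 := by
    rw [Module.supportDim_self_eq_ringKrullDim, hd', hlen,
      Module.supportDim_eq_of_equiv (Submodule.quotEquivOfEq _ _ hI)] at hdim
    generalize Module.supportDim A (A ⧸ Ideal.ofList full) = a at hdim ⊢
    induction a with
    | bot => exact bot_le
    | coe a =>
      induction a using ENat.recTopCoe with
      | top =>
        exfalso
        rw [← WithBot.coe_natCast, ← WithBot.coe_add, WithBot.coe_inj, top_add] at hdim
        exact ENat.natCast_ne_top _ hdim.symm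
      | coe a =>
        have : a + d' = d' := by exact_mod_cast hdim
        exact_mod_cast (show a ≤ 0 by omega)
  have hfl : IsFiniteLength A (A ⧸ Ideal.ofList full) :=
    Module.length_ne_top_iff.1 (GrothLib.FiniteLengthSupp.length_lt_top h0).ne
  obtain ⟨n, hn⟩ : ∃ n, maximalIdeal A ^ n ≤ Ideal.ofList full := by
    obtain ⟨-, _⟩ := isFiniteLength_iff_isNoetherian_isArtinian.1 hfl
    haveI : IsArtinianRing (A ⧸ Ideal.ofList full) := isArtinian_of_tower A inferInstance
    obtain ⟨n, hn⟩ := IsArtinianRing.isNilpotent_jacobson_bot (R := A ⧸ Ideal.ofList full)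
    refine ⟨n, fun a ha => ?_⟩
    have hle : (maximalIdeal A).map (Ideal.Quotient.mk (Ideal.ofList full)) ≤
        Ideal.jacobson (⊥ : Ideal (A ⧸ Ideal.ofList full)) := by
      refine le_sInf fun M hM => ?_
      haveI := hM.2
      rw [Ideal.map_le_iff_le_comap]
      exact (eq_maximalIdeal (Ideal.comap_isMaximal_of_surjective _ Ideal.Quotient.mk_surjective)).ge
    have := Ideal.pow_right_mono hle n (by rw [← Ideal.map_pow]; exact Ideal.mem_map_of_mem _ ha)
    rw [hn, Ideal.zero_eq_bot, Submodule.mem_bot] at this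
    exact Ideal.Quotient.eq_zero_iff_mem.1 this
  obtain ⟨c, hcmem, hc⟩ := exists_D_cyclic hd hf full hlen hreg hn
  have hcD : ∀ a ∈ Ideal.ofList full, ∀ x ∈ D E full, a • x = 0 := fun a ha x hx => (mem_D E).1 hx a ha
  have hfull : ∀ j, Module.length A (T (ModuleCat.of A (D E full)) κ j) = (g d' 0 j : ℕ∞) := by
    let h : ((A ⧸ Ideal.ofList full) →ₗ[A] E) ≃ₗ[A] D E full :=
      LinearEquiv.ofBijective (LinearMap.codRestrict _ (LinearMap.applyₗ (Submodule.Quotient.mk 1))
        fun φ => (mem_D E).2 fun a ha => by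
          show a • φ (Submodule.Quotient.mk 1) = 0
          rw [← map_smul, ← Submodule.Quotient.mk_smul, smul_eq_mul, mul_one,
            (Submodule.Quotient.mk_eq_zero _).2 ha, map_zero])
        ⟨fun φ ψ hφψ => Submodule.linearMap_qext _ (LinearMap.ext_ring (congrArg Subtype.val hφψ)),
          fun x => ⟨(Ideal.ofList full).liftQ (LinearMap.toSpanSingleton A E x.1)
            fun a ha => (mem_D E).1 x.2 a ha, Subtype.ext (one_smul A x.1)⟩⟩
    have hlenD : Module.length A (D E full) = Module.length A (A ⧸ Ideal.ofList full) :=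
      h.length_eq.symm.trans (GrothLib.Matlis.length_linearMap hf hfl)
    let c' : D E full := ⟨c, hcmem⟩
    have hc' : Function.Surjective (LinearMap.toSpanSingleton A (D E full) c') := fun x => by
      obtain ⟨a, ha⟩ := hc x.1 x.2
      exact ⟨a, Subtype.ext ha⟩
    let π : (A ⧸ Ideal.ofList full) →ₗ[A] D E full :=
      (Ideal.ofList full).liftQ (LinearMap.toSpanSingleton A _ c') fun a ha =>
        Subtype.ext (hcD a ha c'.1 c'.2)
    have hπ : Function.Surjective π := fun x => by
      obtain ⟨a, ha⟩ := hc' x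
      exact ⟨Submodule.Quotient.mk a, ha⟩
    have hπi : Function.Injective π := by
      rw [← LinearMap.ker_eq_bot, ← Submodule.subsingleton_iff_eq_bot, ← Module.length_eq_zero_iff (R := A)]
      have hh := Module.length_eq_add_of_exact (LinearMap.ker π).subtype π
        (LinearMap.ker π).injective_subtype hπ (LinearMap.exact_subtype_ker_map π)
      rw [hlenD] at hh
      exact (WithTop.add_right_cancel (Module.length_ne_top_iff.2 hfl) (hh.symm.trans (zero_add _).symm))
    intro j
    rw [← (congrEquiv κ (LinearEquiv.ofBijective π ⟨hπi, hπ⟩).toModuleIso j).length_eq,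
      length_T_quotient full hreg hmem j, hlen]
    simp [g]
  have main : ∀ ys rs, rs ++ ys = full → ∀ j,
      Module.length A (T (ModuleCat.of A (D E rs)) κ j) = (g d' ys.length j : ℕ∞) := by
    intro ys
    induction ys with
    | nil =>
      intro rs hrs
      rw [List.append_nil] at hrs
      subst hrs
      exact hfull
    | cons r ys ih =>
      intro rs hrs j
      have hrs' : (rs ++ [r]) ++ ys = full := by rw [List.append_assoc]; exact hrs
      have hreg' : IsWeaklyRegular A (rs ++ [r]) := by
        rw [← hrs', isWeaklyRegular_append_iff] at hreg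
        exact hreg.1
      rw [isWeaklyRegular_append_iff, isWeaklyRegular_singleton_iff] at hreg'
      have hr : IsSMulRegular (A ⧸ Ideal.ofList rs) r :=
        ((Submodule.quotEquivOfEq _ _ (by rw [smul_eq_mul, Ideal.mul_top])).isSMulRegular_congr r).1 hreg'.2
      have hlt : ys.length < d' := by
        rw [← hlen, ← hrs, List.length_append, List.length_cons]
        omega
      refine eq_g d' ys.length hlt (fun j => Module.length A (T (ModuleCat.of A (D E rs)) κ j))
        (fun j => ?_) j
      rw [← ih (rs ++ [r]) hrs' j,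
        length_T_step E rs r (hmem r (hrs ▸ List.mem_append_right _ List.mem_cons_self)) hr j]
  have hnil : D E ([] : List A) = ⊤ := eq_top_iff.2 fun x _ => (mem_D E).2 fun a ha => by
    rw [Ideal.ofList_nil, Submodule.mem_bot] at ha
    rw [ha, zero_smul]
  have := main full [] rfl i
  rw [hlen] at this
  rw [← this]
  exact (congrEquiv κ ((LinearEquiv.ofTop _ hnil).toModuleIso) i).length_eq.symm

end GrothLib.GorTor
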