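import Groth.Agent.Lib.TorReg.Basic
import Groth.Agent.Lib.FlatCx.Misc
import Mathlib.CategoryTheory.Abelian.Projective.Resolution

/-!
# `Tor (-, N)` is killed by the annihilator of `N`, and lengths in its exact sequences
-/

set_option autoImplicit false
universe u

open CategoryTheory TensorProduct GrothLib.FlatFP MonoidalCategory

namespace GrothLib.GorTor

variable {A : Type u} [CommRing A]

/-- The `i`-th homology of the complex computing `Tor (M, N)`. -/
noncomputable abbrev T (M N : ModuleCat.{u} A) (i : ℕ) : ModuleCat.{u} A := (torCx M N).homology i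

theorem smul_eq_zero (M N : ModuleCat.{u} A) (r : A) (hr : ∀ x : N, r • x = 0) (i : ℕ) (y : T M N i) :
    r • y = 0 := by
  let P := projectiveResolution N
  let f : P.complex ⟶ P.complex := r • 𝟙 P.complex
  have hf : f ≫ P.π = 0 := by
    apply HomologicalComplex.hom_ext
    intro j
    rcases j with _ | j
    · refine ModuleCat.hom_ext (LinearMap.ext fun x => ?_)
      show (P.π.f 0).hom (r • x) = 0
      rw [map_smul]
      exact hr _
    · refine ModuleCat.hom_ext (LinearMap.ext fun x => ?_)
      show (P.π.f (j + 1)).hom (r • x) = 0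
      rw [map_smul]
      exact @Subsingleton.elim _ (ModuleCat.subsingleton_of_isZero
        (HomologicalComplex.isZero_single_obj_X (ComplexShape.down ℕ) 0 N (j + 1) (Nat.succ_ne_zero j))) _ _
  have hh := ((tensorL M).mapHomotopy (ProjectiveResolution.liftHomotopyZero f hf)).homologyMap_eq i
  have h1 := GrothLib.FlatCx.homologyMap_eq_smul
    ((HomologicalComplex.shortComplexFunctor _ (ComplexShape.down ℕ) i).map
      (((tensorL M).mapHomologicalComplex _).map f)) r (fun z => by
        show (LinearMap.lTensor M ((r • 𝟙 P.complex : P.complex ⟶ P.complex).f i).hom) z = r • z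
        rw [HomologicalComplex.smul_f_apply, HomologicalComplex.id_f,
          show (r • 𝟙 (P.complex.X i) : P.complex.X i ⟶ P.complex.X i).hom = r • LinearMap.id from rfl,
          LinearMap.lTensor_smul, LinearMap.lTensor_id]
        rfl) y
  refine h1.symm.trans ((ConcreteCategory.congr_hom hh y).trans ?_)
  rw [Functor.map_zero, HomologicalComplex.homologyMap_zero]
  rfl

/-- A map of modules equal to multiplication by an element killing `N` is zero on `Tor (-, N)`. -/
theorem map_eq_zero_of_smul {M : ModuleCat.{u} A} (N : ModuleCat.{u} A) (φ : M ⟶ M) (r : A)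
    (hφ : ∀ x, φ x = r • x) (hr : ∀ x : N, r • x = 0) (i : ℕ) (y : T M N i) :
    (HomologicalComplex.homologyMap (torCxMap φ N) i).hom y = 0 := by
  refine (GrothLib.FlatCx.homologyMap_eq_smul
    ((HomologicalComplex.shortComplexFunctor _ (ComplexShape.down ℕ) i).map (torCxMap φ N)) r ?_ y).trans
    (smul_eq_zero M N r hr i y)
  let Q : ModuleCat.{u} A := (projectiveResolution N).complex.X i
  have key : ∀ z : M ⊗[A] Q, LinearMap.rTensor Q φ.hom z = r • z := fun z => by
    rw [show φ.hom = r • LinearMap.id from LinearMap.ext hφ, LinearMap.rTensor_smul, LinearMap.rTensor_id]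
    rfl
  exact fun z => key z

variable (S : ShortComplex (ModuleCat.{u} A)) (hS : S.ShortExact) (N : ModuleCat.{u} A)

include hS in
/-- Lengths when the second map is zero on `Tor`. -/
theorem length_down (hg : ∀ i (y : T S.X₂ N i), (HomologicalComplex.homologyMap (torCxMap S.g N) i).hom y = 0)
    (i : ℕ) : Module.length A (T S.X₁ N i) =
      Module.length A (T S.X₃ N (i + 1)) + Module.length A (T S.X₂ N i) := by
  have hT := torSeq_shortExact S hS N
  let δ : T S.X₃ N (i + 1) →ₗ[A] T S.X₁ N i := (hT.δ (i + 1) i (by simp)).hom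
  let f : T S.X₁ N i →ₗ[A] T S.X₂ N i := (HomologicalComplex.homologyMap (torCxMap S.f N) i).hom
  let g : ∀ j, T S.X₂ N j →ₗ[A] T S.X₃ N j := fun j =>
    (HomologicalComplex.homologyMap (torCxMap S.g N) j).hom
  have h₁ : Function.Exact δ f :=
    (ShortComplex.ShortExact.moduleCat_exact_iff_function_exact _).1 (hT.homology_exact₁ (i + 1) i (by simp))
  have h₂ : Function.Exact f (g i) :=
    (ShortComplex.ShortExact.moduleCat_exact_iff_function_exact _).1 (hT.homology_exact₂ i)
  have h₃ : Function.Exact (g (i + 1)) δ :=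
    (ShortComplex.ShortExact.moduleCat_exact_iff_function_exact _).1 (hT.homology_exact₃ (i + 1) i (by simp))
  refine Module.length_eq_add_of_exact δ f ?_ (fun y => (h₂ y).1 (hg i y)) h₁
  rw [injective_iff_map_eq_zero]
  intro x hx
  obtain ⟨y, rfl⟩ := (h₃ x).1 hx
  exact hg (i + 1) y

include hS in
/-- Lengths when the first map is zero on `Tor`. -/
theorem length_up (hf : ∀ i (y : T S.X₁ N i), (HomologicalComplex.homologyMap (torCxMap S.f N) i).hom y = 0)
    (i : ℕ) : Module.length A (T S.X₃ N (i + 1)) =
      Module.length A (T S.X₂ N (i + 1)) + Module.length A (T S.X₁ N i) := by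
  have hT := torSeq_shortExact S hS N
  let δ : T S.X₃ N (i + 1) →ₗ[A] T S.X₁ N i := (hT.δ (i + 1) i (by simp)).hom
  let f : ∀ j, T S.X₁ N j →ₗ[A] T S.X₂ N j := fun j =>
    (HomologicalComplex.homologyMap (torCxMap S.f N) j).hom
  let g : T S.X₂ N (i + 1) →ₗ[A] T S.X₃ N (i + 1) :=
    (HomologicalComplex.homologyMap (torCxMap S.g N) (i + 1)).hom
  have h₁ : Function.Exact δ (f i) :=
    (ShortComplex.ShortExact.moduleCat_exact_iff_function_exact _).1 (hT.homology_exact₁ (i + 1) i (by simp))
  have h₂ : Function.Exact (f (i + 1)) g :=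
    (ShortComplex.ShortExact.moduleCat_exact_iff_function_exact _).1 (hT.homology_exact₂ (i + 1))
  have h₃ : Function.Exact g δ :=
    (ShortComplex.ShortExact.moduleCat_exact_iff_function_exact _).1 (hT.homology_exact₃ (i + 1) i (by simp))
  refine Module.length_eq_add_of_exact g δ ?_ (fun y => (h₁ y).1 (hf i y)) h₃
  rw [injective_iff_map_eq_zero]
  intro x hx
  obtain ⟨y, rfl⟩ := (h₂ x).1 hx
  exact hf (i + 1) y

/-- Isomorphic first variables give isomorphic `Tor`. -/
noncomputable def congrEquiv {M M' : ModuleCat.{u} A} (e : M ≅ M') (i : ℕ) : T M N i ≃ₗ[A] T M' N i :=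
  ((HomologicalComplex.homologyFunctor _ _ i).mapIso
    ((NatIso.mapHomologicalComplex ((tensoringLeft (ModuleCat.{u} A)).mapIso e) (ComplexShape.down ℕ)).app
      (projectiveResolution N).complex)).toLinearEquiv

/-- The statement's `Tor` is this homology. -/
noncomputable def torIso (M : ModuleCat.{u} A) (i : ℕ) :
    ((Tor (ModuleCat.{u} A) i).obj M).obj N ≅ T M N i :=
  (projectiveResolution N).isoLeftDerivedObj (tensorL M) i

end GrothLib.GorTor
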